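import Cfsg.Agent.Lib.T2.Bar

/-! Words for the covers of `L₃(4)` (helper17; generated data). -/

set_option autoImplicit false

namespace Cfsg.Lib.ONU

open Cfsg.Lib.Calc

/-- first central generator -/
def wz1 : W := wd [12, 10, 12, 10, 10, 11, 10, 11, 10, 11, 10, 11, 10, 10]

/-- second central generator -/
def wz2 : W := wd [12, 10, 12, 10, 12, 10]

/-- a noncentral involution -/
def wa : W := wd [9, 11, 10, 12, 9, 9, 9, 11, 10, 12, 10, 10, 10]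

/-- a second involution -/
def wc : W := wd [11, 10, 10, 12, 10, 10, 11, 10, 12, 10, 10]

/-- conjugates `a` to `a t` -/
def wm0 : W := wd [11, 10, 11, 10, 12]

/-- test element -/
def wy0 : W := wd [11, 10, 10, 10, 12, 9, 9, 9, 11]

/-- centralise `a` -/
def wyb : List W := [wd [12, 9, 9, 11, 10, 10, 11, 11], wd [11, 10, 10, 10, 12, 9, 9, 9, 11], wd [9, 11, 10, 10, 10, 12, 10, 10, 10]]

/-- square roots of `a` -/
def cands : List W := [wd [10, 12, 10, 11, 9, 12, 12, 10, 10, 10], wd [9, 9, 9, 11, 11, 10, 12, 9, 11, 9], wd [9, 12, 10, 10, 11, 9, 9, 9, 11, 11, 9], wd [9, 9, 12, 10, 11, 9, 12, 12, 9, 12, 12]]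

/-- first coordinate -/
def labM : List W := [.l 0, .l 0, .l 0, .l 0, .l 0, .l 0, .l 0, .l 0, .l 0, .l 9, .l 10, .l 11, .l 12]

/-- second coordinate -/
def labN : List W := [.l 0, .l 0, .l 0, .l 0, .l 0, .l 0, .l 0, .l 0, .l 0, .l 13, .l 14, .l 15, .l 16]

/-- six involutions -/
def labV : List W := [.l 0, wd [12, 12, 9, 9, 9, 12, 10, 12, 9, 11, 10], wd [11, 10, 12, 12, 9, 12, 12, 9, 11], wd [11, 10, 12, 9, 12, 12, 9, 9, 9, 11, 10], wd [11, 9, 11, 9, 9, 12, 9, 11, 11, 10, 10, 10], wd [10, 11, 10, 11, 11, 10, 12, 10, 10, 11, 9], wd [11, 10, 11, 10, 11, 10, 10, 12, 10, 12, 12, 9]]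

/-- six involutions -/
def labY : List W := [.l 0, .l 17, .l 18, .l 19, .l 20, .l 21, .l 22]

/-- the generators in the six involutions -/
def labU : List W := [.l 0, .l 0, .l 0, .l 0, .l 0, .l 0, .l 0, .l 0, .l 0, wd [1, 2, 5, 4, 6, 4, 3, 1], wd [4, 6, 1, 4, 3, 5, 2, 1], wd [4, 5, 2, 5, 2, 1, 5, 4], wd [6, 2, 6, 4, 5, 1, 5, 4]]

/-- the diagonal automorphism -/
def labD : List W := [.l 0, .l 0, .l 0, .l 0, .l 0, .l 0, .l 0, .l 0, .l 0, wd [11, 10, 11, 10, 10, 12, 12, 10, 11, 10], wd [9, 12, 9, 11, 11, 9, 9, 12, 9, 12], wd [12, 9, 11, 11, 9, 12, 12, 9, 9, 12, 9], wd [10, 11, 10, 10, 11, 11, 10, 12, 12, 10, 11]]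

/-- the outer involutions -/
def labS (j : ℕ) : List W := [[.l 0, .l 0, .l 0, .l 0, .l 0, .l 0, .l 0, .l 0, .l 0, wd [12, 10, 11, 10, 12, 10, 11, 10, 11, 10, 11, 9], wd [10, 12, 9, 12, 9, 12, 9, 11, 9, 12, 9, 11], wd [11, 10, 12, 12, 10, 11, 11, 10, 12, 9, 12], wd [11, 11, 10, 12, 12, 10, 11, 11, 10, 12, 9]],
  [.l 0, .l 0, .l 0, .l 0, .l 0, .l 0, .l 0, .l 0, .l 0, wd [10, 12, 9, 12, 12, 10, 11, 9, 11, 10, 11], wd [12, 9, 12, 10, 12, 9, 11, 11, 10, 11, 9], wd [11, 10, 11, 9, 11, 9, 9, 9, 11, 9], wd [10, 12, 10, 10, 10, 12, 10, 12, 9, 12]],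
  [.l 0, .l 0, .l 0, .l 0, .l 0, .l 0, .l 0, .l 0, .l 0, wd [10], wd [9], wd [10, 10, 10, 11, 10, 10], wd [9, 9, 12, 9, 9, 9]]].getD j []

/-- certificates -/
def cert (e j : ℕ) : W × W × W := [(wd [9, 11, 10, 10, 12, 12, 9, 12, 12], .l 0, wd [12, 10, 11, 10, 10]),
  (.l 0, .l 0, .l 0),
  (wd [9, 12, 10, 10], wd [11, 9, 11, 10, 11, 9, 9, 11, 9], wd [12, 9, 9, 12]),
  (wd [9, 12, 10, 10, 12, 9, 12, 9], .l 0, wd [12, 10, 11, 9, 9]),
  (wd [9, 9, 12, 12, 9, 12, 12, 10, 11, 11], .l 0, wd [9]),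
  (.l 0, .l 0, .l 0)].getD (3 * e + j) (.l 0, .l 0, .l 0)

/-- the standard letters -/
def labH : List W := [.l 0, wd [6, 11, 10, 6, 11, 9, 6, 9, 9, 9], wd [12, 12, 9, 6, 10, 11, 11, 10, 10, 12], wa, wd [11, 6, 12, 9, 6, 11, 9], wc, .l 6, .l 0, .pow wz1 2]

/-- a generator -/
def wpS : W := wd [2, 4, 5, 4, 1, 6, 4, 1]

/-- a generator -/
def wqS : W := wd [2, 6, 5, 1, 4, 5, 6, 5, 6, 1]

end Cfsg.Lib.ONU
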